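import Mathlib
import Cfsg.Agent.QuadMap.Gauss

/-! The squaring map of a group whose squares are central involutions. -/

namespace CfsgLib.QuadMap

/-- Twisted commutator appearing in the expansion of a square. -/
def tcomm {G : Type*} [Group G] (x z : G) : G := x⁻¹ * z * x * z⁻¹

theorem tcomm_mem {G : Type*} [Group G] {K : Subgroup G} (hsq : ∀ g : G, g * g ∈ K) (x z : G) :
    tcomm x z ∈ K := by
  have e : tcomm x z = (x⁻¹ * x⁻¹) * ((x * z) * (x * z)) * (z⁻¹ * z⁻¹) := by rw [tcomm]; group
  rw [e]; exact mul_mem (mul_mem (hsq _) (hsq _)) (hsq _)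

theorem tcomm_mul_left {G : Type*} [Group G] {K : Subgroup G} (hsq : ∀ g : G, g * g ∈ K)
    (hc : K ≤ Subgroup.center G) (x y z : G) : tcomm (x * y) z = tcomm x z * tcomm y z := by
  have h := Subgroup.mem_center_iff.1 (hc (tcomm_mem hsq x z))
  calc tcomm (x * y) z = y⁻¹ * tcomm x z * (z * y * z⁻¹) := by rw [tcomm, tcomm]; group
    _ = tcomm x z * y⁻¹ * (z * y * z⁻¹) := by rw [h y⁻¹]
    _ = _ := by rw [tcomm, tcomm]; group

theorem mul_self_mul {G : Type*} [Group G] {K : Subgroup G} (hsq : ∀ g : G, g * g ∈ K)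
    (hc : K ≤ Subgroup.center G) (x z : G) :
    (x * z) * (x * z) = (x * x) * tcomm x z * (z * z) := by rw [tcomm]; group

/-- Divisibility of twisted counts of preimages under a quadratic map into an elementary abelian 2-group. -/
theorem pow_dvd_index_mul_sum {X : Type*} [Group X] [Fintype X] {W : Type*} [CommGroup W] [Finite W]
    (h2 : ∀ w : W, w * w = 1) (q : X → W) (c : X → X → W)
    (hq : ∀ x z, q (x * z) = q x * c x z * q z) (hc : ∀ x y z, c (x * y) z = c x z * c y z)
    {d : ℕ} (hd : Fintype.card X = 2 ^ d) (W' : Subgroup W) [DecidablePred (· ∈ W')] (l : W →* ℤˣ) :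
    ((2 : ℤ) ^ ((d + 1) / 2)) ∣ (W'.index : ℤ) *
      ∑ x ∈ Finset.univ.filter (fun x => q x ∈ W'), (l (q x) : ℤ) := by
  classical
  induction hk : W'.index using Nat.strong_induction_on generalizing W' l with
  | _ k ih =>
    subst hk
    by_cases htop : W' = ⊤
    · subst htop
      have hs : ∀ x y z, polar (fun x => l (q x)) (x * y) z =
          polar (fun x => l (q x)) x z * polar (fun x => l (q x)) y z := by
        intro x y z
        have e : ∀ a b, polar (fun x => l (q x)) a b = l (c a b) := by
          intro a b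
          simp only [polar, hq, map_mul]
          calc l (q a) * l (c a b) * l (q b) * l (q a) * l (q b)
              = (l (q a) * l (q a)) * (l (q b) * l (q b)) * l (c a b) := by
                simp only [mul_assoc, mul_comm, mul_left_comm]
            _ = _ := by simp [Int.units_mul_self]
        rw [e, e, e, hc, map_mul]
      have hdvd := card_dvd_sum_sq (fun x => l (q x)) hs
      rw [hd] at hdvd
      simp only [Subgroup.index_top, Nat.cast_one, one_mul, Subgroup.mem_top, Finset.filter_true]
      have h3 : (2 ^ d : ℕ) ∣ ((∑ x, (l (q x) : ℤ)).natAbs) ^ 2 := by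
        rw [← Int.natAbs_pow]
        exact Int.natCast_dvd.1 hdvd
      have h4 : 2 ^ ((d + 1) / 2) ∣ (∑ x, (l (q x) : ℤ)).natAbs := by
        rcases Nat.eq_zero_or_pos ((∑ x, (l (q x) : ℤ)).natAbs) with h0 | hpos
        · rw [h0]; exact dvd_zero _
        obtain ⟨e, m, hm, he⟩ := Nat.exists_eq_two_pow_mul_odd hpos.ne'
        rw [he] at h3 ⊢
        refine dvd_mul_of_dvd_left (pow_dvd_pow 2 ?_) _
        rw [mul_pow, ← pow_mul] at h3
        have h5 : (2 ^ d).Coprime (m ^ 2) := (Nat.coprime_two_left.2 hm).pow d 2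
        have := (Nat.pow_dvd_pow_iff_le_right (by norm_num)).1 (h5.dvd_of_dvd_mul_right h3)
        omega
      have := Int.natCast_dvd.2 h4
      push_cast at this
      exact this
    · obtain ⟨w, hw⟩ : ∃ w, w ∉ W' := by
        by_contra h
        push Not at h
        exact htop (eq_top_iff.2 fun y _ => h y)
      obtain ⟨H, hW'H, hH, hwH⟩ := exists_index_two_not_mem (K := W')
        (fun g => by rw [h2]; exact one_mem _) hw
      obtain ⟨μ, hμ⟩ := exists_sign_char hH
      set W'' := W' ⊔ Subgroup.zpowers w with hW''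
      have hmem : ∀ y ∈ W'', y ∈ W' ↔ μ y = 1 := by
        intro y hy
        refine ⟨fun h => (hμ y).2 (hW'H h), fun h => ?_⟩
        obtain ⟨a, ha, _, ⟨k, rfl⟩, rfl⟩ := Subgroup.mem_sup.1 hy
        rcases Int.even_or_odd k with ⟨j, rfl⟩ | ⟨j, rfl⟩
        · simpa [← two_mul, zpow_mul, zpow_two, h2, pow_two] using ha
        · exfalso
          apply hwH
          rw [← hμ]
          simpa [zpow_add, zpow_mul, zpow_two, h2, pow_two, (hμ a).2 (hW'H ha)] using h
      have hwW'' : w ∈ W'' := Subgroup.mem_sup_right (Subgroup.mem_zpowers w)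
      have hle : W' ≤ W'' := le_sup_left
      have hrel : W'.relIndex W'' = 2 := by
        refine Subgroup.index_eq_two_iff.2 ⟨⟨w, hwW''⟩, fun b => ?_⟩
        have hμw : μ w = -1 := (Int.units_eq_one_or (μ w)).resolve_left fun h => hwH ((hμ w).1 h)
        simp only [Subgroup.mem_subgroupOf, Subgroup.coe_mul]
        rw [hmem _ (mul_mem b.2 hwW''), hmem _ b.2, map_mul, hμw]
        rcases Int.units_eq_one_or (μ (b : W)) with h | h <;> simp [h, Xor]
      have hidx : W'.index = 2 * W''.index := by rw [← Subgroup.relIndex_mul_index hle, hrel]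
      have hpos : W''.index ≠ 0 := Subgroup.index_ne_zero_of_finite
      have key : 2 * ∑ x ∈ Finset.univ.filter (fun x => q x ∈ W'), (l (q x) : ℤ) =
          ∑ x ∈ Finset.univ.filter (fun x => q x ∈ W''), (l (q x) : ℤ) +
          ∑ x ∈ Finset.univ.filter (fun x => q x ∈ W''), ((l * μ) (q x) : ℤ) := by
        simp only [Finset.sum_filter, Finset.mul_sum, ← Finset.sum_add_distrib]
        refine Finset.sum_congr rfl fun x _ => ?_
        by_cases h' : q x ∈ W''
        · rcases Int.units_eq_one_or (μ (q x)) with hm | hm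
          · simp [h', (hmem _ h').2 hm, hm, two_mul]
          · have hn : q x ∉ W' := fun h => by
              have := (hmem _ h').1 h
              rw [hm] at this; exact absurd this (by decide)
            simp [h', hn, hm]
        · rw [if_neg h', if_neg (fun h => h' (hle h))]; simp [if_neg h']
      rw [hidx]
      push_cast
      rw [mul_comm (2 : ℤ), mul_assoc, key, mul_add]
      exact dvd_add (ih _ (by omega) W'' l rfl) (ih _ (by omega) W'' (l * μ) rfl)

/-- If the squaring map of `U` into `M` modulo `L` only vanishes on `K`, then `[U : K] ≤ [M : L]²`. -/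
theorem relIndex_le_sq {G : Type*} [Group G] [Finite G] (hG : IsPGroup 2 G) {K : Subgroup G}
    (hsq : ∀ g : G, g * g ∈ K) (hc : K ≤ Subgroup.center G) (h1 : ∀ k ∈ K, k * k = 1)
    {U L M : Subgroup G} (hKU : K ≤ U) (hLM : L ≤ M) (hMK : M ≤ K) (hUM : ∀ u ∈ U, u * u ∈ M)
    (hker : ∀ u ∈ U, u * u ∈ L → u ∈ K) :
    K.relIndex U ≤ L.relIndex M ^ 2 := by
  classical
  haveI hKn : K.Normal := ⟨fun k hk g => by
    rw [Subgroup.mem_center_iff.1 (hc hk) g, mul_assoc, mul_inv_cancel, mul_one]; exact hk⟩
  haveI hLn : (L.subgroupOf M).Normal := ⟨fun k hk g => by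
    have : g * k * g⁻¹ = k := Subtype.ext (by
      have := Subgroup.mem_center_iff.1 (hc (hMK g.2)) (k : G)
      simp [← this])
    rw [this]; exact hk⟩
  letI : CommGroup (M ⧸ L.subgroupOf M) :=
    { (inferInstance : Group (M ⧸ L.subgroupOf M)) with
      mul_comm := by
        intro a b
        induction a using QuotientGroup.induction_on with | H a => ?_
        induction b using QuotientGroup.induction_on with | H b => ?_
        rw [← QuotientGroup.mk_mul, ← QuotientGroup.mk_mul]
        congr 1
        exact Subtype.ext (Subgroup.mem_center_iff.1 (hc (hMK b.2)) (a : G)) }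
  set X := U ⧸ K.subgroupOf U with hX
  letI : Fintype X := Fintype.ofFinite X
  have hwd : ∀ (u : U) (k : K.subgroupOf U), ((u * k : U) : G) * ((u * k : U) : G) = (u : G) * (u : G) := by
    intro u k
    have hk : ((k : U) : G) ∈ K := k.2
    rw [Subgroup.coe_mul, mul_self_mul hsq hc, h1 _ hk, mul_one]
    have : tcomm (u : G) ((k : U) : G) = 1 := by
      rw [tcomm, mul_assoc _ ((k : U) : G), ← Subgroup.mem_center_iff.1 (hc hk) (u : G)]; group
    rw [this, mul_one]
  let sqU : U → M ⧸ L.subgroupOf M := fun u => QuotientGroup.mk (s := L.subgroupOf M) ⟨(u : G) * u, hUM u u.2⟩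
  let q : X → M ⧸ L.subgroupOf M := fun x => sqU x.out
  have hout : ∀ u : U, q (u : X) = sqU u := by
    intro u
    obtain ⟨k, hk⟩ := QuotientGroup.mk_out_eq_mul (K.subgroupOf U) u
    simp only [q, sqU, hk]
    congr 1
    exact Subtype.ext (hwd u k)
  let c : X → X → M ⧸ L.subgroupOf M := fun x z => (q x)⁻¹ * q (x * z) * (q z)⁻¹
  have hcu : ∀ u v : U, (tcomm (u : G) (v : G)) ∈ M := by
    intro u v
    have e : tcomm (u : G) (v : G) =
        ((u⁻¹ : U) : G) * (u⁻¹ : U) * (((u * v : U) : G) * (u * v : U)) * (((v⁻¹ : U) : G) * (v⁻¹ : U)) := by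
      simp [tcomm, mul_assoc]
    rw [e]
    exact mul_mem (mul_mem (hUM _ (u⁻¹).2) (hUM _ (u * v).2)) (hUM _ (v⁻¹).2)
  have hcc : ∀ u v : U, c (u : X) (v : X) =
      QuotientGroup.mk (s := L.subgroupOf M) ⟨tcomm (u : G) (v : G), hcu u v⟩ := by
    intro u v
    simp only [c]
    rw [← QuotientGroup.mk_mul, hout, hout, hout]
    simp only [sqU]
    rw [← QuotientGroup.mk_inv, ← QuotientGroup.mk_inv, ← QuotientGroup.mk_mul, ← QuotientGroup.mk_mul]
    congr 1
    apply Subtype.ext
    simp [tcomm, mul_assoc]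
  obtain ⟨d, hd⟩ : ∃ d, Fintype.card X = 2 ^ d := by
    obtain ⟨d, hd⟩ := (hG.to_subgroup U).index (K.subgroupOf U)
    exact ⟨d, by rw [← Nat.card_eq_fintype_card]; exact hd⟩
  have hdiv := pow_dvd_index_mul_sum (W := M ⧸ L.subgroupOf M) (fun w => by
      induction w using QuotientGroup.induction_on with | H w => ?_
      rw [← QuotientGroup.mk_mul, QuotientGroup.eq_one_iff, Subgroup.mem_subgroupOf, Subgroup.coe_mul,
        h1 _ (hMK w.2)]
      exact one_mem _)
    q c (fun x z => by simp only [c]; group) (fun x y z => by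
      induction x using QuotientGroup.induction_on with | H x => ?_
      induction y using QuotientGroup.induction_on with | H y => ?_
      induction z using QuotientGroup.induction_on with | H z => ?_
      rw [← QuotientGroup.mk_mul, hcc, hcc, hcc, ← QuotientGroup.mk_mul]
      congr 1
      exact Subtype.ext (tcomm_mul_left hsq hc (x : G) (y : G) (z : G))) hd ⊥ 1
  have hone : Finset.univ.filter (fun x => q x ∈ (⊥ : Subgroup (M ⧸ L.subgroupOf M))) = {(1 : X)} := by
    ext x
    induction x using QuotientGroup.induction_on with | H u => ?_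
    simp only [Finset.mem_filter, Finset.mem_univ, true_and, Finset.mem_singleton, Subgroup.mem_bot, hout,
      sqU, QuotientGroup.eq_one_iff, Subgroup.mem_subgroupOf]
    refine ⟨fun h => (QuotientGroup.eq_one_iff u).2 (hker u u.2 h), fun h => ?_⟩
    have hu : (u : G) ∈ K := (QuotientGroup.eq_one_iff u).1 h
    rw [h1 _ hu]; exact one_mem _
  rw [hone, Finset.sum_singleton, Subgroup.index_bot] at hdiv
  simp only [MonoidHom.one_apply, Units.val_one, mul_one] at hdiv
  have hle : 2 ^ ((d + 1) / 2) ≤ L.relIndex M := by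
    refine Nat.le_of_dvd ?_ ?_
    · exact Nat.pos_of_ne_zero Subgroup.index_ne_zero_of_finite
    · have := Int.natCast_dvd_natCast.1 (by push_cast; exact hdiv)
      exact this
  calc K.relIndex U = 2 ^ d := by rw [← hd, ← Nat.card_eq_fintype_card]; rfl
    _ ≤ (2 ^ ((d + 1) / 2)) ^ 2 := by rw [← pow_mul]; exact Nat.pow_le_pow_right (by norm_num) (by omega)
    _ ≤ _ := Nat.pow_le_pow_left hle 2

end CfsgLib.QuadMap
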